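import Cfsg.Agent.Lib.Comp.Fast

set_option maxRecDepth 100000
set_option Elab.async false

namespace Cfsg.Lib.Comp.U43g

universe u

def iv : ℕ → ℕ := (fun x => look (nat_lit 0xffef7cefae78df6d74cf2c70beeb6caeaa689e69648e28607de75c6da6585d65544d24503ce30d28b2091c61440c2040) 6 x)

noncomputable def R : List (List ℕ × ℕ) := (apd [([1],1),
 ([2],1),
 ([3],1),
 ([4],1),
 ([5],1),
 ([6],1),
 ([7],1),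
 ([1,2],1),
 ([1,3],1),
 ([1,4],1),
 ([1,5],1),
 ([1,6],1),
 ([1,7],1),
 ([2,3],1),
 ([2,4],1),
 ([2,5],1),
 ([2,6],1),
 ([2,7,2,7,1],0),
 ([3,4],1),
 ([3,5,3,5,1],0),
 ([3,6,3,6,2],0),
 ([3,7,3,7,1],0),
 ([4,5,4,5,2,1],0),
 ([4,6,4,6,1],0),
 ([4,7,4,7,3,2,1],0),
 ([5,6],1),
 ([5,7],1),
 ([6,7,6,7,5],0),
 ([8],2),
 ([8,1,9,1],0),
 ([8,2,9,2,3],0),
 ([8,3,9,2],0),
 ([8,4,9,4],0),
 ([8,5,9,7],0),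
 ([8,7,9,5,7],0),
 ([6,8],1),
 ([12],2),
 ([12,1,13,1],0),
 ([12,2,13,5],0),
 ([12,3,13,5,7],0)]
 [([12,5,13,1,2,5],0),
 ([12,6,13,6],0),
 ([12,7,13,2,7,3],0),
 ([4,12],1),
 ([8,12,9,13],0),
 ([10],2),
 ([7,10],1),
 ([10,1,11,2],0),
 ([10,2,11,1,2],0),
 ([10,3,11,4],0),
 ([10,4,11,3,4],0),
 ([10,5,11,5,6],0),
 ([10,6,11,5],0),
 ([8,11],4),
 ([8,10],7),
 ([12,11],7),
 ([13,10,9,10,7,13,7,11,8,11,12,10,9,10,7,12,7,11,8,11],0),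
 ([8,9],0),
 ([10,11],0),
 ([12,13],0)])

def L : List ℕ := [1,2,3,4,5,6,7,8,9,10,11,12,13]

end Cfsg.Lib.Comp.U43g
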