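import Cfsg.Agent.Lib.Comp.U43g.Base

set_option maxRecDepth 100000
set_option Elab.async false

namespace Cfsg.Lib.Comp.U43g

universe u

noncomputable def T2_R : List (List ℕ × ℕ) := [([1],1),
 ([2],1),
 ([3],1),
 ([4],1),
 ([5],1),
 ([6],1),
 ([7],1),
 ([1,2],1),
 ([1,3],1),
 ([1,4],1),
 ([1,5],1),
 ([1,6],1),
 ([1,7],1),
 ([2,3],1),
 ([2,4],1),
 ([2,5],1),
 ([2,6],1),
 ([2,7,2,7,1],0),
 ([3,4],1),
 ([3,5,3,5,1],0),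
 ([3,6,3,6,2],0),
 ([3,7,3,7,1],0),
 ([4,5,4,5,2,1],0),
 ([4,6,4,6,1],0),
 ([4,7,4,7,3,2,1],0),
 ([5,6],1),
 ([5,7],1),
 ([6,7,6,7,5],0),
 ([8],2),
 ([8,1,9,1],0),
 ([8,2,9,2,3],0),
 ([8,3,9,2],0),
 ([8,4,9,4],0),
 ([8,5,9,7],0),
 ([8,7,9,5,7],0),
 ([6,8],1),
 ([8,9],0)]

noncomputable def T2_n_6 : Net :=
 (Net.cons 1 (nat_lit 0x2)
 Net.nil)

noncomputable def T2_n_8 : Net :=
 (Net.cons 1 (nat_lit 0x2)
 (Net.cons 1 (nat_lit 0x1)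
 Net.nil))

noncomputable def T2_n : List Net := [Net.nil,
 Net.nil,
 Net.nil,
 Net.nil,
 Net.nil,
 Net.nil,
 T2_n_6,
 Net.nil,
 T2_n_8,
 Net.rev T2_n_8]

theorem T2_n_ok : NetsOK 3 T2_n := netsOK_of (by decide +kernel)

theorem T2_n_rel : Rels (gp T2_n) T2_R := rels_of_relsB (k := 2) T2_n_ok (by norm_num) (by decide +kernel)

theorem T2_fin : finB 3 T2_n [1,2,3,4,5,6,7,8,9] 3 (runH 3 T2_n (fun x p => ptInv (nth Net.nil T2_n x) p) iv T2_R [] ([1,2,3,4,5,6,7].map fun x => [x]) 0 []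
  [1,5,9,13,17,21,25,144,112,116,120,124,128,132,136,140,144,20,80]
  (defsH 3 T2_n (ones 42) [8,9] (Nat.shiftLeft 1 0) 0)) = true := by decide +kernel

theorem T2_idx : Idx.{u} iv (T2_R ++ []) ([1,2,3,4,5,6,7].map fun x => [x]) [1,2,3,4,5,6,7,8,9] 3 :=
  Reach.idx T2_n_ok (reach_runH T2_n_ok (fun x p _ => ptInv_gp T2_n_ok x p) T2_n_rel (reach_defsH T2_n_ok _ _ _ _ _ _) _ _) T2_fin (by norm_num)

end Cfsg.Lib.Comp.U43g
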